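import Mathlib
import Cfsg.Agent.H79.OrbitDual
import Cfsg.Agent.H79.MinIdxSp2.Basic

/-!
# The three types of a pair (vector, point) in an action of small degree
-/

set_option autoImplicit false
set_option linter.unusedSectionVars false

namespace Cfsg.Agent.H79.MinIdxSp2

open Cfsg.Agent.H79.OrbitDual

namespace Sp2

variable {F V G : Type*} [Field F] [AddCommGroup V] [Module F V] [Group G]
    [DistribMulAction G V] (S : Sp2 F V G) {X : Type*} [MulAction G X]

/-- The vectors orthogonal to `e` and `f`. -/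
def W0 (e f : V) : AddSubgroup V where
  carrier := {w | S.B e w = 0 ∧ S.B f w = 0}
  zero_mem' := ⟨S.zero_right e, S.zero_right f⟩
  add_mem' := by
    rintro a b ⟨h1, h2⟩ ⟨h3, h4⟩
    exact ⟨by rw [S.add_right, h1, h3, add_zero], by rw [S.add_right, h2, h4, add_zero]⟩
  neg_mem' := by
    rintro a ⟨h1, h2⟩
    have h3 : -a = a := by rw [neg_eq_iff_add_eq_zero]; exact S.add_self a
    change S.B e (-a) = 0 ∧ S.B f (-a) = 0
    rw [h3]
    exact ⟨h1, h2⟩

theorem mem_W0 {e f w : V} : w ∈ S.W0 e f ↔ S.B e w = 0 ∧ S.B f w = 0 := Iff.rfl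

/-- The projection to `W0`. -/
theorem proj_mem {e f : V} (hef : S.B e f = 1) (v : V) :
    v + S.B f v • e + S.B e v • f ∈ S.W0 e f := by
  have hfe : S.B f e = 1 := by rw [S.symm, hef]
  rw [S.mem_W0]
  simp only [S.add_right, S.smul_right, S.self, hef, hfe, mul_zero, mul_one, add_zero]
  exact ⟨S.add_selfF _, S.add_selfF _⟩

theorem nd_W0 {e f : V} (hef : S.B e f = 1) {v : V} (hv : v ∈ S.W0 e f)
    (h : ∀ w ∈ S.W0 e f, S.B w v = 0) : v = 0 := by
  apply S.nd
  intro w
  obtain ⟨h1, h2⟩ := S.mem_W0.1 hv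
  have h3 := h _ (S.proj_mem hef w)
  rw [S.add_left, S.add_left, S.smul_left, S.smul_left, h1, h2, mul_zero, mul_zero, add_zero,
    add_zero] at h3
  rw [S.symm, h3]

include S in
theorem card_F : Nat.card F = 2 := by
  have : Finite F := by
    refine Finite.of_surjective (fun i : Fin 2 => if i = 0 then (0 : F) else 1) ?_
    intro a
    rcases S.two a with rfl | rfl
    · exact ⟨0, by simp⟩
    · exact ⟨1, by simp⟩
  apply le_antisymm
  · have h2 : Nat.card F ≤ Nat.card (Fin 2) := by
      refine Nat.card_le_card_of_surjective (fun i : Fin 2 => if i = 0 then (0 : F) else 1) ?_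
      intro a
      rcases S.two a with rfl | rfl
      · exact ⟨0, by simp⟩
      · exact ⟨1, by simp⟩
    rwa [Nat.card_eq_fintype_card (α := Fin 2), Fintype.card_fin] at h2
  · exact Finite.one_lt_card

theorem card_W0 [Finite V] {e f : V} (hef : S.B e f = 1) :
    Nat.card V = 4 * Nat.card (S.W0 e f) := by
  have hfe : S.B f e = 1 := by rw [S.symm, hef]
  let φ : V →+ F × F := AddMonoidHom.mk' (fun v => (S.B e v, S.B f v)) (fun v w => by
    rw [S.add_right, S.add_right]
    rfl)
  have hφ : Function.Surjective φ := by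
    rintro ⟨a, b⟩
    refine ⟨a • f + b • e, ?_⟩
    change (S.B e (a • f + b • e), S.B f (a • f + b • e)) = (a, b)
    simp only [S.add_right, S.smul_right, S.self, hef, hfe, mul_zero, mul_one, add_zero, zero_add]
  have hk : φ.ker = S.W0 e f := by
    ext v
    rw [AddMonoidHom.mem_ker, S.mem_W0]
    exact Prod.mk_eq_zero
  have h1 := φ.ker.card_mul_index
  rw [AddSubgroup.index_ker, AddMonoidHom.range_eq_top.2 hφ, AddSubgroup.card_top, hk,
    Nat.card_prod, S.card_F] at h1
  rw [← h1]
  ring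

/-- The orbits of `t e`. -/
def ySetoid (X : Type*) [MulAction G X] (e : V) : Setoid X where
  r x y := y = x ∨ y = S.t e • x
  iseqv := {
    refl := fun x => Or.inl rfl
    symm := by
      rintro x y (rfl | rfl)
      · exact Or.inl rfl
      · exact Or.inr (S.t_t_smul e x).symm
    trans := by
      rintro x y z (rfl | rfl) (rfl | rfl)
      · exact Or.inl rfl
      · exact Or.inr rfl
      · exact Or.inr rfl
      · exact Or.inl (S.t_t_smul e x) }

/-- The set of orbits of `t e`. -/
abbrev Y (X : Type*) [MulAction G X] (e : V) : Type _ := Quotient (S.ySetoid X e)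

theorem mk_eq {e : V} {x y : X} :
    (Quotient.mk (S.ySetoid X e) x) = Quotient.mk (S.ySetoid X e) y ↔
      y = x ∨ y = S.t e • x := Quotient.eq (r := S.ySetoid X e)

/-- An element commuting with `t e` acts on `Y`. -/
def yMap {e : V} (g : G) (hg : g * S.t e = S.t e * g) : Equiv.Perm (S.Y X e) where
  toFun := Quotient.map (fun x => g • x) (by
    rintro x y (rfl | rfl)
    · exact Or.inl rfl
    · exact Or.inr (by simp only [← mul_smul]; rw [hg]))
  invFun := Quotient.map (fun x => g⁻¹ • x) (by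
    rintro x y (rfl | rfl)
    · exact Or.inl rfl
    · refine Or.inr ?_
      have h : g⁻¹ * S.t e = S.t e * g⁻¹ := by
        rw [inv_mul_eq_iff_eq_mul, ← mul_assoc, hg, mul_assoc, mul_inv_cancel, mul_one]
      simp only [← mul_smul]
      rw [h])
  left_inv := by
    intro y
    induction y using Quotient.inductionOn with
    | h x => simp [Quotient.map_mk]
  right_inv := by
    intro y
    induction y using Quotient.inductionOn with
    | h x => simp [Quotient.map_mk]

theorem yMap_mk {e : V} (g : G) (hg : g * S.t e = S.t e * g) (x : X) :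
    S.yMap g hg (Quotient.mk (S.ySetoid X e) x) = Quotient.mk _ (g • x) := rfl

theorem yMap_congr {e : V} {g g' : G} {hg : g * S.t e = S.t e * g}
    {hg' : g' * S.t e = S.t e * g'} (h : g = g') :
    (S.yMap g hg : Equiv.Perm (S.Y X e)) = S.yMap g' hg' := by
  subst h
  rfl

theorem yMap_mul {e : V} {g g' : G} (hg : g * S.t e = S.t e * g)
    (hg' : g' * S.t e = S.t e * g') (hgg : (g * g') * S.t e = S.t e * (g * g')) :
    (S.yMap (g * g') hgg : Equiv.Perm (S.Y X e)) = S.yMap g hg * S.yMap g' hg' := by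
  ext y
  induction y using Quotient.inductionOn with
  | h x =>
    rw [Equiv.Perm.mul_apply, S.yMap_mk, S.yMap_mk, S.yMap_mk, mul_smul]

/-- The action of `W0` on `Y`. -/
def D (X : Type*) [MulAction G X] (e f : V) : Act (Equiv.Perm (S.Y X e)) (S.Y X e) (S.W0 e f) where
  T w := S.yMap (S.s e w.1) (S.s_comm_t w.2.1)
  map_add := by
    intro a b
    ext y
    induction y using Quotient.inductionOn with
    | h x =>
      rw [Equiv.Perm.mul_apply, S.yMap_mk, S.yMap_mk, S.yMap_mk, S.mk_eq]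
      change _ = S.s e (a.1 + b.1) • x ∨ _ = S.t e • S.s e (a.1 + b.1) • x
      rcases S.two (S.B a.1 b.1) with h | h
      · left
        rw [← mul_smul, S.s_mul_zero a.2.1 b.2.1 h]
      · right
        have h3 : S.B e (a.1 + b.1) = 0 := by
          rw [S.add_right, show S.B e a.1 = 0 from a.2.1, show S.B e b.1 = 0 from b.2.1, add_zero]
        rw [← mul_smul, S.s_mul_one a.2.1 b.2.1 h, ← S.s_comm_t_smul h3, mul_smul]

theorem D_T (e f : V) (w : S.W0 e f) (x : X) :
    (S.D X e f).T w • (Quotient.mk (S.ySetoid X e) x) = Quotient.mk _ (S.s e w.1 • x) := rfl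

/-- Orthogonality. -/
def kap (e f : V) (w v : S.W0 e f) : Prop := S.B w.1 v.1 = 0

theorem card_kap [Finite V] {e f : V} (hef : S.B e f = 1) (C : AddSubgroup (S.W0 e f)) :
    Nat.card {v // ∀ w ∈ C, S.kap e f w v} = 1 * C.index := by
  obtain ⟨χ, hχ⟩ : ∃ χ : AddChar F ℂ, χ 1 ≠ 1 := by
    have : Finite F := Nat.finite_of_card_ne_zero (by rw [S.card_F]; decide)
    exact (AddChar.exists_apply_ne_zero (a := (1 : F))).2 one_ne_zero
  have hχ' : ∀ a : F, χ a = 1 ↔ a = 0 := by
    intro a
    rcases S.two a with rfl | rfl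
    · simp
    · simp [hχ]
  let φ : S.W0 e f → AddChar (S.W0 e f) ℂ := fun v =>
    { toFun := fun w => χ (S.B w.1 v.1)
      map_zero_eq_one' := by
        change χ (S.B 0 v.1) = 1
        rw [S.zero_left, AddChar.map_zero_eq_one]
      map_add_eq_mul' := by
        intro a b
        change χ (S.B (a.1 + b.1) v.1) = _
        rw [S.add_left, AddChar.map_add_eq_mul] }
  have h0 : Nat.card {v // ∀ a, φ v a = 1} = 1 := by
    rw [Nat.card_eq_one_iff_unique]
    refine ⟨⟨fun a b => ?_⟩, ⟨⟨0, fun w => ?_⟩⟩⟩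
    · have h1 : ∀ a : {v // ∀ a, φ v a = 1}, a.1 = 0 := by
        intro a
        apply Subtype.ext
        refine S.nd_W0 hef a.1.2 fun w hw => ?_
        exact (hχ' _).1 (a.2 ⟨w, hw⟩)
      exact Subtype.ext ((h1 a).trans (h1 b).symm)
    · change χ (S.B w.1 0) = 1
      rw [S.zero_right, AddChar.map_zero_eq_one]
  have h1 := card_ann φ (fun v w a => by
    change χ (S.B a.1 (v.1 + w.1)) = _
    rw [S.add_right, AddChar.map_add_eq_mul]
    rfl) h0 (by rw [one_mul]) C
  rw [← h1]
  refine Nat.card_congr (Equiv.subtypeEquivRight fun v => ?_)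
  refine forall_congr' fun w => forall_congr' fun _ => ?_
  exact (hχ' _).symm

theorem fix_mem {e f w : V} {g : G} (he : g • e = e) (hf : g • f = f) (hw : w ∈ S.W0 e f) :
    g • w ∈ S.W0 e f := by
  obtain ⟨h1, h2⟩ := S.mem_W0.1 hw
  have h3 := S.inv g e w
  have h4 := S.inv g f w
  rw [he] at h3
  rw [hf] at h4
  exact ⟨by rw [h3, h1], by rw [h4, h2]⟩

/-- An element fixing `e` and `f` permutes `W0`. -/
def w0Equiv (e f : V) (g : G) (he : g • e = e) (hf : g • f = f) : S.W0 e f ≃ S.W0 e f where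
  toFun w := ⟨g • w.1, S.fix_mem he hf w.2⟩
  invFun w := ⟨g⁻¹ • w.1, S.fix_mem (inv_smul_eq_iff.2 he.symm) (inv_smul_eq_iff.2 hf.symm) w.2⟩
  left_inv _ := Subtype.ext (inv_smul_smul _ _)
  right_inv _ := Subtype.ext (smul_inv_smul _ _)

theorem comm_of_fix {e : V} {g : G} (he : g • e = e) : g * S.t e = S.t e * g := by
  have := S.conj g e
  rw [he, mul_inv_eq_iff_eq_mul] at this
  exact this

theorem D_conj {e f : V} (g : G) (he : g • e = e) (hf : g • f = f) (w : S.W0 e f) :
    (S.yMap g (S.comm_of_fix he)) * (S.D X e f).T w * (S.yMap g (S.comm_of_fix he))⁻¹ =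
      (S.D X e f).T (S.w0Equiv e f g he hf w) := by
  rw [mul_inv_eq_iff_eq_mul]
  ext y
  induction y using Quotient.inductionOn with
  | h x =>
    rw [Equiv.Perm.mul_apply, Equiv.Perm.mul_apply]
    change (Quotient.mk (S.ySetoid X e) (g • S.s e w.1 • x)) =
      Quotient.mk (S.ySetoid X e) (S.s e (g • w.1) • g • x)
    have h := S.s_conj g e w.1
    rw [he, mul_inv_eq_iff_eq_mul] at h
    rw [← mul_smul, ← mul_smul, h]

theorem kap_conj {e f : V} (g : G) (he : g • e = e) (hf : g • f = f) (w v : S.W0 e f) :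
    S.kap e f (S.w0Equiv e f g he hf w) (S.w0Equiv e f g he hf v) ↔ S.kap e f w v := by
  change S.B (g • w.1) (g • v.1) = 0 ↔ _
  rw [S.inv]
  exact Iff.rfl

/-- The multiplicity. -/
noncomputable abbrev kk (X : Type*) [MulAction G X] (e f : V) (v : S.W0 e f) : ℕ :=
  (S.D X e f).k (S.kap e f) v

theorem kk_conj {e f : V} (g : G) (he : g • e = e) (hf : g • f = f) (v : S.W0 e f) :
    S.kk X e f (S.w0Equiv e f g he hf v) = S.kk X e f v :=
  (S.D X e f).k_conj (S.kap e f) (S.yMap g (S.comm_of_fix he)) (S.w0Equiv e f g he hf)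
    (S.w0Equiv e f g he hf) (S.D_conj g he hf) (S.kap_conj g he hf) v

/-- The transvection of a vector of `W0` fixes `e` and `f`. -/
theorem t_fix {e f u : V} (hu : u ∈ S.W0 e f) : S.t u • e = e ∧ S.t u • f = f := by
  obtain ⟨h1, h2⟩ := S.mem_W0.1 hu
  constructor
  · rw [S.t_smul, S.symm u e, h1, zero_smul, add_zero]
  · rw [S.t_smul, S.symm u f, h2, zero_smul, add_zero]

theorem kk_const_one {e f : V} {v v' : S.W0 e f} (h : S.B v.1 v'.1 = 1) :
    S.kk X e f v' = S.kk X e f v := by
  have hu : v.1 + v'.1 ∈ S.W0 e f := (v + v').2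
  obtain ⟨h1, h2⟩ := S.t_fix hu
  rw [← S.kk_conj (S.t (v.1 + v'.1)) h1 h2 v]
  congr 1
  apply Subtype.ext
  change v'.1 = S.t (v.1 + v'.1) • v.1
  rw [S.t_smul, S.add_left, S.self, S.symm v'.1, h, zero_add, one_smul, ← add_assoc, S.add_self,
    zero_add]

theorem kk_const {e f : V} (hef : S.B e f = 1) {v v' : S.W0 e f} (hv : v ≠ 0) (hv' : v' ≠ 0) :
    S.kk X e f v' = S.kk X e f v := by
  -- a vector of `W0` not orthogonal to either
  have h1 : ∀ v : S.W0 e f, v ≠ 0 → ∃ z : S.W0 e f, S.B v.1 z.1 = 1 := by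
    intro v hv
    by_contra hcon
    push Not at hcon
    apply hv
    apply Subtype.ext
    refine S.nd_W0 hef v.2 fun w hw => ?_
    have := hcon ⟨w, hw⟩
    rw [S.ne_one] at this
    rw [S.symm, this]
  obtain ⟨z, hz⟩ := h1 v hv
  obtain ⟨z', hz'⟩ := h1 v' hv'
  have h2 : ∃ y : S.W0 e f, S.B v.1 y.1 = 1 ∧ S.B v'.1 y.1 = 1 := by
    rcases S.two (S.B v'.1 z.1) with h | h
    · rcases S.two (S.B v.1 z'.1) with h' | h'
      · refine ⟨z + z', ?_, ?_⟩
        · change S.B v.1 (z.1 + z'.1) = 1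
          rw [S.add_right, hz, h', add_zero]
        · change S.B v'.1 (z.1 + z'.1) = 1
          rw [S.add_right, hz', h, zero_add]
      · exact ⟨z', h', hz'⟩
    · exact ⟨z, hz, h⟩
  obtain ⟨y, hy, hy'⟩ := h2
  rw [← S.kk_const_one (X := X) hy, S.kk_const_one (X := X) (v := y) (by rw [S.symm, hy'])]

/-- The annihilators. -/
abbrev An (e f : V) (y : S.Y X e) : Set (S.W0 e f) := (S.D X e f).A (S.kap e f) y

theorem add_mem_An {e f : V} {y : S.Y X e} {v w : S.W0 e f} (hv : v ∈ S.An e f y)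
    (hw : w ∈ S.An e f y) : v + w ∈ S.An e f y := by
  intro a ha
  change S.B a.1 (v.1 + w.1) = 0
  rw [S.add_right, show S.B a.1 v.1 = 0 from hv a ha, show S.B a.1 w.1 = 0 from hw a ha,
    add_zero]

theorem zero_mem_An {e f : V} {y : S.Y X e} : (0 : S.W0 e f) ∈ S.An e f y := by
  intro a _
  exact S.zero_right a.1

/-- The block property for transvections. -/
theorem block {e f : V} (hk : ∀ v : S.W0 e f, v ≠ 0 → S.kk X e f v = 1) {y : S.Y X e}
    {v w : S.W0 e f} (hv : v ∈ S.An e f y) (hv0 : v ≠ 0) (hw : w ∈ S.An e f y) {u : S.W0 e f}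
    (huv : S.B u.1 v.1 = 0) (huw : S.B u.1 w.1 = 1) : u ∈ S.An e f y := by
  obtain ⟨h1, h2⟩ := S.t_fix u.2
  set E := S.w0Equiv e f (S.t u.1) h1 h2 with hE
  have hEv : E v = v := by
    apply Subtype.ext
    change S.t u.1 • v.1 = v.1
    rw [S.t_smul, huv, zero_smul, add_zero]
  have hEw : E w = w + u := by
    apply Subtype.ext
    change S.t u.1 • w.1 = w.1 + u.1
    rw [S.t_smul, huw, one_smul]
  have hconj := fun x => (S.D X e f).mem_A_conj (S.kap e f)
    (S.yMap (S.t u.1) (S.comm_of_fix h1)) E E (S.D_conj (S.t u.1) h1 h2)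
    (S.kap_conj (S.t u.1) h1 h2) y x
  have h3 := (hconj v).2 hv
  rw [hEv] at h3
  have h4 := (S.D X e f).A_eq_of_k_eq_one (S.kap e f) (hk v hv0) h3 hv
  have h5 := (hconj w).2 hw
  rw [hEw, h4] at h5
  have h6 := S.add_mem_An hw h5
  have h7 : w + (w + u) = u := by
    apply Subtype.ext
    exact S.add_add_self w.1 u.1
  rw [h7] at h6
  exact h6

/-- An annihilator with two nonzero vectors is everything. -/
theorem An_univ [Finite V] {e f : V} (hef : S.B e f = 1)
    (hk : ∀ v : S.W0 e f, v ≠ 0 → S.kk X e f v = 1)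
    {y : S.Y X e} {v w : S.W0 e f} (hv : v ∈ S.An e f y) (hv0 : v ≠ 0) (hw : w ∈ S.An e f y)
    (hw0 : w ≠ 0) (hvw : v ≠ w) (u : S.W0 e f) : u ∈ S.An e f y := by
  -- vectors with given values
  have hex : ∀ v w : S.W0 e f, v ≠ 0 → w ≠ 0 → v ≠ w →
      ∃ u : S.W0 e f, S.B u.1 v.1 = 0 ∧ S.B u.1 w.1 = 1 := by
    intro v w hv0 hw0 hvw
    by_contra hcon
    push Not at hcon
    -- then `w ∈ {0, v}`
    have h1 : ∀ u : S.W0 e f, S.B u.1 v.1 = 0 → S.B u.1 w.1 = 0 := fun u hu =>
      (S.ne_one).1 (hcon u hu)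
    -- some `u₀` with `B u₀ w = 1`
    obtain ⟨u₀, hu₀⟩ : ∃ u₀ : S.W0 e f, S.B u₀.1 w.1 = 1 := by
      by_contra hcon2
      push Not at hcon2
      apply hw0
      apply Subtype.ext
      exact S.nd_W0 hef w.2 fun z hz => (S.ne_one).1 (hcon2 ⟨z, hz⟩)
    have hu₀v : S.B u₀.1 v.1 = 1 := by
      rw [← S.ne_zero]
      intro h
      rw [h1 u₀ h] at hu₀
      exact zero_ne_one hu₀
    apply hvw
    apply Subtype.ext
    rw [← S.add_eq_zero]
    refine S.nd_W0 hef (v + w).2 fun z hz => ?_
    rw [S.add_right]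
    rcases S.two (S.B z v.1) with h | h
    · rw [h, h1 ⟨z, hz⟩ h, add_zero]
    · have h2 : S.B (z + u₀.1) v.1 = 0 := by rw [S.add_left, h, hu₀v, S.one_add_one]
      have h3 := h1 (⟨z, hz⟩ + u₀) h2
      change S.B (z + u₀.1) w.1 = 0 at h3
      rw [S.add_left, hu₀] at h3
      rw [h, add_comm]
      exact h3
  have key1 : ∀ u : S.W0 e f, S.B u.1 v.1 = 0 → S.B u.1 w.1 = 1 → u ∈ S.An e f y :=
    fun u h1 h2 => S.block hk hv hv0 hw h1 h2
  have key2 : ∀ u : S.W0 e f, S.B u.1 w.1 = 0 → S.B u.1 v.1 = 1 → u ∈ S.An e f y :=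
    fun u h1 h2 => S.block hk hw hw0 hv h1 h2
  obtain ⟨a, ha1, ha2⟩ := hex v w hv0 hw0 hvw
  obtain ⟨b, hb1, hb2⟩ := hex w v hw0 hv0 hvw.symm
  have hself : ∀ z : S.W0 e f, a + (a + z) = z := fun z => Subtype.ext (S.add_add_self a.1 z.1)
  have key0 : ∀ u : S.W0 e f, S.B u.1 v.1 = 0 → S.B u.1 w.1 = 0 → u ∈ S.An e f y := by
    intro u h1 h2
    have h3 : a + u ∈ S.An e f y := key1 _ (by
      change S.B (a.1 + u.1) v.1 = 0
      rw [S.add_left, ha1, h1, add_zero]) (by
      change S.B (a.1 + u.1) w.1 = 1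
      rw [S.add_left, ha2, h2, add_zero])
    have h4 := S.add_mem_An (key1 a ha1 ha2) h3
    rwa [hself] at h4
  rcases S.two (S.B u.1 v.1) with h1 | h1 <;> rcases S.two (S.B u.1 w.1) with h2 | h2
  · exact key0 u h1 h2
  · exact key1 u h1 h2
  · exact key2 u h2 h1
  · have h3 : a + u ∈ S.An e f y := key2 _ (by
      change S.B (a.1 + u.1) w.1 = 0
      rw [S.add_left, ha2, h2, S.one_add_one]) (by
      change S.B (a.1 + u.1) v.1 = 1
      rw [S.add_left, ha1, h1, zero_add])
    have h4 := S.add_mem_An (key1 a ha1 ha2) h3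
    rwa [hself] at h4

/-- Type Q: all of `Q_e` fixes `x`. -/
def TQ (e : V) (x : X) : Prop := S.t e • x = x ∧ ∀ w, S.B e w = 0 → S.s e w • x = x

/-- Type H: the stabilizer of `x` in `Q_e` is a complement of `t e`. -/
def TH (e : V) (x : X) : Prop :=
  S.t e • x ≠ x ∧ ∀ w, S.B e w = 0 → S.s e w • x = x ∨ S.s e w • x = S.t e • x

/-- Type Z: the stabilizer of `x` in `Q_e` is generated by `t e`. -/
def TZ (e : V) (x : X) : Prop :=
  S.t e • x = x ∧ ∀ w, S.B e w = 0 → S.s e w • x = x → w = 0 ∨ w = e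

theorem mem_B {e f : V} {x : X} {w : S.W0 e f} :
    w ∈ (S.D X e f).B (Quotient.mk _ x) ↔ S.s e w.1 • x = x ∨ S.s e w.1 • x = S.t e • x := by
  rw [Act.mem_B, S.D_T, S.mk_eq]
  constructor
  · rintro (h | h)
    · exact Or.inl h.symm
    · right
      have h1 := congrArg (fun z => S.t e • z) h
      simp only [S.t_t_smul] at h1
      exact h1.symm
  · rintro (h | h)
    · exact Or.inl h.symm
    · right
      rw [h, S.t_t_smul]

theorem s_proj {e f w : V} (hef : S.B e f = 1) (hw : S.B e w = 0) :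
    ∃ w0 ∈ S.W0 e f, S.s e w0 = S.s e w ∧ (w0 = w ∨ w0 = e + w) := by
  have h1 := S.proj_mem hef w
  rw [hw, zero_smul, add_zero] at h1
  refine ⟨_, h1, ?_, ?_⟩
  · rcases S.two (S.B f w) with h | h
    · rw [h, zero_smul, add_zero]
    · rw [h, one_smul, add_comm, S.s_add_self hw]
  · rcases S.two (S.B f w) with h | h
    · left; rw [h, zero_smul, add_zero]
    · right; rw [h, one_smul, add_comm]

theorem card_Y_le [Finite X] (e : V) : Nat.card (S.Y X e) ≤ Nat.card X :=
  Nat.card_le_card_of_surjective _ Quotient.mk_surjective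

theorem type_of_trivial [Finite V] {e f : V} (hef : S.B e f = 1) {x : X}
    (h : ∀ v ∈ S.An e f (Quotient.mk _ x), v = 0) : S.TQ e x ∨ S.TH e x := by
  have h1 : ((S.D X e f).B (Quotient.mk _ x)).index = 1 := by
    have h2 := (S.D X e f).card_A (S.kap e f) (S.card_kap hef) (Quotient.mk _ x)
    have h3 : Nat.card (S.An e f (Quotient.mk _ x)) = 1 := by
      rw [Nat.card_eq_one_iff_unique]
      exact ⟨⟨fun a b => Subtype.ext ((h a.1 a.2).trans (h b.1 b.2).symm)⟩, ⟨⟨0, S.zero_mem_An⟩⟩⟩
    rw [h3, one_mul] at h2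
    exact h2.symm
  rw [AddSubgroup.index_eq_one] at h1
  have h2 : ∀ w, S.B e w = 0 → S.s e w • x = x ∨ S.s e w • x = S.t e • x := by
    intro w hw
    obtain ⟨w0, hw0, h3, -⟩ := S.s_proj hef hw
    rw [← h3]
    have h4 : (⟨w0, hw0⟩ : S.W0 e f) ∈ (S.D X e f).B (Quotient.mk _ x) := by rw [h1]; trivial
    exact S.mem_B.1 h4
  by_cases ht : S.t e • x = x
  · left
    refine ⟨ht, fun w hw => ?_⟩
    rcases h2 w hw with h | h
    · exact h
    · rw [h, ht]
  · exact Or.inr ⟨ht, h2⟩

theorem type_of_univ [Finite V] [Finite X] (hX : 2 * Nat.card X + 4 < Nat.card V) {e f : V}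
    (hef : S.B e f = 1) {x : X}
    (h : ∀ v, v ∈ S.An e f (Quotient.mk _ x)) : S.TZ e x := by
  have h1 : ((S.D X e f).B (Quotient.mk _ x)).index = Nat.card (S.W0 e f) := by
    have h2 := (S.D X e f).card_A (S.kap e f) (S.card_kap hef) (Quotient.mk _ x)
    have h3 : Nat.card (S.An e f (Quotient.mk _ x)) = Nat.card (S.W0 e f) := by
      rw [show S.An e f (Quotient.mk _ x) = Set.univ from Set.eq_univ_of_forall h, Nat.card_univ]
    rw [h3, one_mul] at h2
    exact h2.symm
  have h2 : (S.D X e f).B (Quotient.mk _ x) = ⊥ := by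
    have h3 := ((S.D X e f).B (Quotient.mk (S.ySetoid X e) x)).card_mul_index
    rw [h1] at h3
    have h4 : Nat.card ((S.D X e f).B (Quotient.mk (S.ySetoid X e) x)) = 1 :=
      Nat.eq_of_mul_eq_mul_right (Nat.card_pos (α := S.W0 e f)) (by rw [h3, one_mul])
    exact AddSubgroup.card_eq_one.1 h4
  have h3 : ∀ w ∈ S.W0 e f, S.s e w • x = x ∨ S.s e w • x = S.t e • x → w = 0 := by
    intro w hw h4
    have h5 : (⟨w, hw⟩ : S.W0 e f) ∈ (S.D X e f).B (Quotient.mk _ x) := S.mem_B.2 h4
    rw [h2] at h5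
    exact congrArg Subtype.val (AddSubgroup.mem_bot.1 h5)
  have ht : S.t e • x = x := by
    by_contra ht
    -- too many points
    have hinj : Function.Injective (fun p : S.W0 e f × Bool =>
        if p.2 then S.t e • S.s e p.1.1 • x else S.s e p.1.1 • x) := by
      rintro ⟨w, b⟩ ⟨w', b'⟩ hp
      have hw : w = w' := by
        have h4 : (S.D X e f).T w • (Quotient.mk (S.ySetoid X e) x) =
            (S.D X e f).T w' • (Quotient.mk (S.ySetoid X e) x) := by
          rw [S.D_T, S.D_T, S.mk_eq]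
          cases b <;> cases b'
          · exact Or.inl hp.symm
          · right
            have hp' : S.s e w.1 • x = S.t e • S.s e w'.1 • x := hp
            rw [hp', S.t_t_smul]
          · right
            exact (show S.t e • S.s e w.1 • x = S.s e w'.1 • x from hp).symm
          · left
            exact ((smul_left_cancel_iff (S.t e)).1
              (show S.t e • S.s e w.1 • x = S.t e • S.s e w'.1 • x from hp)).symm
        have h5 : -w' + w ∈ (S.D X e f).B (Quotient.mk (S.ySetoid X e) x) := by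
          rw [Act.mem_B, Act.map_add, Act.map_neg, mul_smul, inv_smul_eq_iff]
          exact h4
        rw [h2, AddSubgroup.mem_bot, neg_add_eq_zero] at h5
        exact h5.symm
      subst hw
      have h6 : S.t e • S.s e w.1 • x ≠ S.s e w.1 • x := by
        rw [← S.s_comm_t_smul w.2.1]
        intro h
        exact ht ((smul_left_cancel_iff _).1 h)
      cases b <;> cases b'
      · rfl
      · exact absurd hp.symm h6
      · exact absurd hp h6
      · rfl
    have h4 := Nat.card_le_card_of_injective _ hinj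
    rw [Nat.card_prod, Nat.card_eq_fintype_card (α := Bool), Fintype.card_bool] at h4
    have h5 := S.card_W0 hef
    omega
  refine ⟨ht, fun w hw hwx => ?_⟩
  obtain ⟨w0, hw0, h4, h5⟩ := S.s_proj hef hw
  have h6 := h3 w0 hw0 (Or.inl (by rw [h4]; exact hwx))
  rcases h5 with h5 | h5
  · left; rw [← h5, h6]
  · right
    rw [h6] at h5
    exact (S.add_eq_zero.1 h5.symm).symm

theorem exists_hyp {e : V} (he : e ≠ 0) : ∃ f, S.B e f = 1 := by
  by_contra hcon
  push Not at hcon
  exact he (S.nd e fun w => S.ne_one.1 (hcon w))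

/-- The trichotomy. -/
theorem tri [Finite V] [Finite X] (hX : 2 * Nat.card X + 4 < Nat.card V) {e : V} (he : e ≠ 0)
    (x : X) : S.TQ e x ∨ S.TH e x ∨ S.TZ e x := by
  obtain ⟨f, hef⟩ := S.exists_hyp he
  have hcW := S.card_W0 hef
  have hYX := S.card_Y_le (X := X) e
  have hm : 1 ≤ Nat.card (S.D X e f).Orb := by
    have : Nonempty (S.D X e f).Orb := ⟨Quotient.mk _ (Quotient.mk _ x)⟩
    exact Nat.card_pos
  obtain ⟨c, hc⟩ : ∃ c, ∀ v : S.W0 e f, v ≠ 0 → S.kk X e f v = c := by
    by_cases h : ∃ v : S.W0 e f, v ≠ 0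
    · obtain ⟨v, hv⟩ := h
      exact ⟨S.kk X e f v, fun w hw => S.kk_const hef hv hw⟩
    · push Not at h
      exact ⟨0, fun v hv => absurd (h v) hv⟩
  have hcount : Nat.card (S.Y X e) + c = Nat.card (S.D X e f).Orb + c * Nat.card (S.W0 e f) := by
    have h1 := (S.D X e f).card_eq_of_const (S.kap e f) (S.card_kap hef) {v | v ≠ 0} hc
      (fun w hw a => by
        have : w = 0 := not_not.1 hw
        rw [this]
        exact S.zero_right a.1)
    have h4 := Set.ncard_add_ncard_compl {v : S.W0 e f | v ≠ 0}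
    rw [← Nat.card_coe_set_eq, ← Nat.card_coe_set_eq] at h4
    have h2 : Nat.card (({v | v ≠ 0} : Set (S.W0 e f))ᶜ : Set (S.W0 e f)) = 1 := by
      rw [Nat.card_eq_one_iff_unique]
      refine ⟨⟨fun a b => ?_⟩, ⟨⟨0, fun h => h rfl⟩⟩⟩
      have h3 : ∀ a : (({v | v ≠ 0} : Set (S.W0 e f))ᶜ : Set (S.W0 e f)), a.1 = 0 :=
        fun a => not_not.1 a.2
      exact Subtype.ext ((h3 a).trans (h3 b).symm)
    rw [h2] at h1 h4
    rw [← h4, mul_add]
    omega
  have hc2 : c < 2 := by
    by_contra hcon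
    push Not at hcon
    obtain ⟨r, hr⟩ : ∃ r, Nat.card (S.W0 e f) = r + 1 :=
      ⟨Nat.card (S.W0 e f) - 1, by have := Nat.card_pos (α := S.W0 e f); omega⟩
    rw [hr] at hcount hcW
    nlinarith
  interval_cases c
  · have h1 : ∀ v ∈ S.An e f (Quotient.mk (S.ySetoid X e) x), v = 0 := by
      intro v hv
      by_contra hv0
      exact (S.D X e f).notMem_A_of_k_eq_zero (S.kap e f) (hc v hv0) _ hv
    rcases S.type_of_trivial hef h1 with h | h
    · exact Or.inl h
    · exact Or.inr (Or.inl h)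
  · -- some annihilator is everything
    have h1 : ∃ y : S.Y X e, ∀ v, v ∈ S.An e f y := by
      by_contra hcon
      push Not at hcon
      have h2 : ∀ y : S.Y X e, ((S.D X e f).B y).index ≤ 2 := by
        intro y
        have h3 := (S.D X e f).card_A (S.kap e f) (S.card_kap hef) y
        rw [one_mul] at h3
        rw [← h3]
        by_contra hcon2
        push Not at hcon2
        -- two distinct nonzero elements
        obtain ⟨u, hu⟩ := hcon y
        apply hu
        have h4 : ∃ v ∈ S.An e f y, v ≠ 0 := by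
          by_contra hcon3
          push Not at hcon3
          have h5 : Nat.card (S.An e f y) ≤ Nat.card (Fin 1) :=
            Nat.card_le_card_of_injective (fun _ => 0) (fun a b _ =>
              Subtype.ext ((hcon3 a.1 a.2).trans (hcon3 b.1 b.2).symm))
          rw [Nat.card_eq_fintype_card (α := Fin 1), Fintype.card_fin] at h5
          change 2 < Nat.card (S.An e f y) at hcon2
          omega
        obtain ⟨v, hv, hv0⟩ := h4
        have h5 : ∃ w ∈ S.An e f y, w ≠ 0 ∧ v ≠ w := by
          by_contra hcon3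
          push Not at hcon3
          classical
          have h5 : Nat.card (S.An e f y) ≤ Nat.card (Fin 2) := by
            refine Nat.card_le_card_of_injective
              (fun a => if a.1 = 0 then (0 : Fin 2) else 1) (fun a b hab => ?_)
            by_cases ha : a.1 = 0 <;> by_cases hb : b.1 = 0
            · exact Subtype.ext (ha.trans hb.symm)
            · simp [ha, hb] at hab
            · simp [ha, hb] at hab
            · exact Subtype.ext ((hcon3 a.1 a.2 ha).symm.trans (hcon3 b.1 b.2 hb))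
          rw [Nat.card_eq_fintype_card (α := Fin 2), Fintype.card_fin] at h5
          change 2 < Nat.card (S.An e f y) at hcon2
          omega
        obtain ⟨w, hw, hw0, hvw⟩ := h5
        exact S.An_univ hef hc hv hv0 hw hw0 hvw u
      have h3 : Nat.card (S.Y X e) ≤ Nat.card (S.D X e f).Orb * 2 := by
        classical
        have := Fintype.ofFinite (S.D X e f).Orb
        rw [(S.D X e f).card_eq_sum_index, Nat.card_eq_fintype_card (α := (S.D X e f).Orb),
          ← smul_eq_mul, ← Finset.card_univ, ← Finset.sum_const]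
        exact Finset.sum_le_sum fun O _ => h2 _
      omega
    obtain ⟨y, hy⟩ := h1
    by_cases h2 : ∃ v ∈ S.An e f (Quotient.mk (S.ySetoid X e) x), v ≠ 0
    · obtain ⟨v, hv, hv0⟩ := h2
      have h3 := (S.D X e f).A_eq_of_k_eq_one (S.kap e f) (hc v hv0) hv (hy v)
      refine Or.inr (Or.inr (S.type_of_univ hX hef fun v => ?_))
      change v ∈ (S.D X e f).A (S.kap e f) _
      rw [h3]
      exact hy v
    · push Not at h2
      rcases S.type_of_trivial hef h2 with h | h
      · exact Or.inl h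
      · exact Or.inr (Or.inl h)

end Sp2

end Cfsg.Agent.H79.MinIdxSp2
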